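import Cfsg.Agent.H44.LyOrder.Orbit
import Cfsg.Agent.H46.Ly.Prog

/-!
Two elements whose images have order dividing 67 and whose product is the first generator.
-/

set_option autoImplicit false
set_option maxRecDepth 100000
set_option exponentiation.threshold 300

namespace H44.LyOrder

open H68.Ly (Mat St St_inj cmask idN idN_eq runR runR_eq rows rows_eq tab tab_ok toM packTab fz fz_eq U W)
open H46.LySchur (runP runP_eq runG nth code)

/-- the powers 2, 4, ..., 64, 66, 67 -/
def sqProg : List (ℕ × ℕ) :=
  [(0, 0), (0, 0), (0, 0), (0, 0), (0, 0), (0, 0), (0, 5), (0, 7)]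

theorem runG_sqProg (g : Cfsg.Spor.Ly) : nth 1 (runG sqProg [g]) 0 = g ^ 67 := by
  show g * g * (g * g) * (g * g * (g * g)) * (g * g * (g * g) * (g * g * (g * g))) *
      (g * g * (g * g) * (g * g * (g * g)) * (g * g * (g * g) * (g * g * (g * g)))) *
      (g * g * (g * g) * (g * g * (g * g)) * (g * g * (g * g) * (g * g * (g * g))) *
        (g * g * (g * g) * (g * g * (g * g)) * (g * g * (g * g) * (g * g * (g * g))))) *
      (g * g) * g = g ^ 67
  simp only [← pow_two]
  simp only [← pow_mul, ← pow_add, ← pow_succ]

/-- the sixty-seventh power of a word is the identity matrix -/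
noncomputable def pow67B (w : List ℕ) : Bool :=
  (w.all fun x => Nat.blt x 10) &&
    fz cmask fun cm => fz (H60.PackMat.rep (111 * 111) 65535) fun m => fz idN fun i1 =>
      runR cm m (w.map rows) i1 fun X => runP cm m i1 sqProg [X] fun env => Nat.beq (nth i1 env 0) i1

theorem pow67B_spec {w : List ℕ} (h : pow67B w = true) : H68.Ly.rep (elt w) ^ 67 = 1 := by
  simp only [pow67B, fz_eq, Bool.and_eq_true, List.all_eq_true] at h
  obtain ⟨hw, h⟩ := h
  have hw' : ∀ x ∈ w, x < 10 := fun x hx => blt_lt (hw x hx)
  have hrows : w.map rows = (w.map tab).map packTab := by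
    rw [List.map_map]
    exact List.map_congr_left fun x _ => rows_eq x
  rw [hrows, idN_eq, runR_eq _ (fun S hS => by
    obtain ⟨x, hx, rfl⟩ := List.mem_map.1 hS
    exact tab_ok x (hw' x hx)), one_mul, ← idN_eq] at h
  have hcode : St ((w.map tab).map toM).prod = code (elt w) := by
    rw [code, rep_elt hw', W]
    congr 1
    clear h hrows hw
    induction w with
    | nil => simp
    | cons x w ih =>
      simp only [List.map_cons, List.prod_cons, Units.val_mul]
      rw [H68.Ly.coe_U (hw' x List.mem_cons_self), ih fun y hy => hw' y (List.mem_cons_of_mem _ hy)]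
  rw [hcode, show [code (elt w)] = [elt w].map code from rfl, runP_eq, ← H46.LySchur.code_one,
    H46.LySchur.nth_map, runG_sqProg] at h
  have e := St_inj (Nat.eq_of_beq_eq_true h)
  rw [← map_pow, ← map_one H68.Ly.rep]
  exact Units.ext e

/-- the first element -/
def uWord : List ℕ := [5, 9, 6, 2, 8, 2, 8]

/-- the second element -/
def vWord : List ℕ := [3, 7, 3, 7, 1, 4, 0, 0]

theorem uWord_ok : pow67B uWord = true := by decide +kernel

theorem vWord_ok : pow67B vWord = true := by decide +kernel

theorem uv_eq : PresentedGroup.of Cfsg.Spor.Ly.Gen.a = elt uWord * elt vWord := by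
  simp [elt, uWord, vWord, H44.LyTwo.lyGens, H44.LyTwo.lyGen, mul_assoc]

end H44.LyOrder
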