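import Cfsg.Agent.H44.LyOrder.Primes
import Cfsg.Agent.H44.LyOrder.SixtySeven
import Cfsg.Agent.H46.Ly.Lower
import Cfsg.Agent.H65.LyTop
import Cfsg.Agent.H97.Ly.Exact
import Cfsg.Agent.H97.Ly.Final
import Cfsg.Agent.H97.Ly.Simple

/-!
The presented Lyons group has the Lyons order and is simple.
-/

set_option autoImplicit false
set_option maxRecDepth 100000

namespace H44.LyOrder

open H68.Ly (rep)

theorem order_dvd_range : H97.Ly.Simple.order ∣ Nat.card rep.range := by
  obtain ⟨h2, h3, h5⟩ := H46.LySchur.pow_dvd_range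
  unfold H97.Ly.Simple.order
  refine Nat.Coprime.mul_dvd_of_dvd_of_dvd (by norm_num) ?_ dvd_67
  refine Nat.Coprime.mul_dvd_of_dvd_of_dvd (by norm_num) ?_ dvd_37
  refine Nat.Coprime.mul_dvd_of_dvd_of_dvd (by norm_num) ?_ dvd_31
  refine Nat.Coprime.mul_dvd_of_dvd_of_dvd (by norm_num) ?_ dvd_11
  refine Nat.Coprime.mul_dvd_of_dvd_of_dvd (by norm_num) ?_ dvd_7
  refine Nat.Coprime.mul_dvd_of_dvd_of_dvd (by norm_num) ?_ h5
  exact Nat.Coprime.mul_dvd_of_dvd_of_dvd (by norm_num) h2 h3

theorem order_eq : H97.Ly.Simple.order = 51765179004000000 := by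
  norm_num [H97.Ly.Simple.order]

theorem card_range_le : Nat.card rep.range ≤ Nat.card Cfsg.Spor.Ly :=
  Nat.card_le_card_of_surjective rep.rangeRestrict rep.rangeRestrict_surjective

theorem card_ly : Nat.card Cfsg.Spor.Ly = 51765179004000000 := by
  refine le_antisymm H97.Ly.card_ly_le ?_
  rw [← order_eq]
  exact (Nat.le_of_dvd Nat.card_pos order_dvd_range).trans card_range_le

theorem rep_injective : Function.Injective rep := by
  have h : Nat.card Cfsg.Spor.Ly ≤ Nat.card rep.range := by
    rw [card_ly, ← order_eq]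
    exact Nat.le_of_dvd Nat.card_pos order_dvd_range
  have hb := (Function.Surjective.bijective_of_nat_card_le rep.rangeRestrict_surjective h).injective
  exact fun x y e => hb (Subtype.ext e)

theorem index_abcd : H97.Ly.abcd.index = 8835156 := (H97.Ly.M0.index_card card_ly).1

theorem isSimple : IsSimpleGroup Cfsg.Spor.Ly := by
  have hpow : ∀ w, pow67B w = true → elt w ^ 67 = 1 := fun w hw =>
    rep_injective (by rw [map_pow, map_one]; exact pow67B_spec hw)
  exact H97.Ly.Simple.isSimple (card_ly.trans order_eq.symm) (hpow _ uWord_ok) (hpow _ vWord_ok)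
    uv_eq (fun M hM ha => haveI := hM; H65.LyTop.normal_top M ha) (H97.Ly.M0.center_eq_bot card_ly)

theorem isLy : Cfsg.IsLy Cfsg.Spor.Ly := ⟨isSimple, card_ly⟩

end H44.LyOrder
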