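import Cfsg.Agent.H44.LyTwo.LyGens
import Cfsg.Agent.H97.Ly.Vec

/-!
Divisors of the order of the image of the presented Lyons group from orbit chains of packed vectors: the group
acts on row vectors through its 111-dimensional representation.
-/

set_option autoImplicit false
set_option maxRecDepth 100000

namespace H44.LyOrder

open H44.LyTwo (lyGens lyGens_map)
open H68.Ly (Mat toM W invWord)
open H97.Ly.Vec (V vecPk vecPk_inj vecPk_vecOf okVec imgB imgB_spec wordMat)

/-- the element of the presented group given by a word in the ten letters -/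
noncomputable def elt (w : List ℕ) : Cfsg.Spor.Ly := (w.map fun x => lyGens.getD x 1).prod

theorem rep_letter {x : ℕ} (hx : x < 10) : H68.Ly.rep (lyGens.getD x 1) = H68.Ly.U x := by
  refine Units.ext ?_
  rw [H68.Ly.coe_U hx]
  have hl : lyGens.length = 10 := rfl
  have h := congrArg (fun L : List Mat => L[x]?) lyGens_map
  simp only [List.getElem?_map, List.getElem?_eq_getElem (show x < lyGens.length by omega),
    List.getElem?_range hx, Option.map_some, Option.some.injEq] at h
  rw [List.getD_eq_getElem _ _ (show x < lyGens.length by omega)]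
  exact h

theorem rep_elt : ∀ {w : List ℕ}, (∀ x ∈ w, x < 10) → H68.Ly.rep (elt w) = W w
  | [], _ => by simp [elt, W]
  | x :: w, h => by
    have ih := rep_elt (w := w) fun y hy => h y (List.mem_cons_of_mem _ hy)
    simp only [elt, W, List.map_cons, List.prod_cons, map_mul] at ih ⊢
    rw [ih, rep_letter (h x List.mem_cons_self)]

/-- a matrix moves a row vector by its inverse -/
noncomputable def permHom : GL (Fin 111) (ZMod 5) →* Equiv.Perm V where
  toFun g :=
    { toFun := fun v => Matrix.vecMul v ((g⁻¹ : GL (Fin 111) (ZMod 5)) : Mat)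
      invFun := fun v => Matrix.vecMul v (g : Mat)
      left_inv := fun v => by
        show Matrix.vecMul (Matrix.vecMul v _) _ = v
        rw [Matrix.vecMul_vecMul, ← Units.val_mul, inv_mul_cancel, Units.val_one, Matrix.vecMul_one]
      right_inv := fun v => by
        show Matrix.vecMul (Matrix.vecMul v _) _ = v
        rw [Matrix.vecMul_vecMul, ← Units.val_mul, mul_inv_cancel, Units.val_one, Matrix.vecMul_one] }
  map_one' := by
    refine Equiv.ext fun v => ?_
    show Matrix.vecMul v (((1 : GL (Fin 111) (ZMod 5))⁻¹ : GL (Fin 111) (ZMod 5)) : Mat) = v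
    rw [inv_one, Units.val_one, Matrix.vecMul_one]
  map_mul' g h := by
    refine Equiv.ext fun v => ?_
    show Matrix.vecMul v (((g * h)⁻¹ : GL (Fin 111) (ZMod 5)) : Mat) =
      Matrix.vecMul (Matrix.vecMul v ((h⁻¹ : GL (Fin 111) (ZMod 5)) : Mat))
        ((g⁻¹ : GL (Fin 111) (ZMod 5)) : Mat)
    rw [mul_inv_rev, Units.val_mul, Matrix.vecMul_vecMul]

/-- the action of the presented group -/
noncomputable def act : Cfsg.Spor.Ly →* Equiv.Perm V := permHom.comp H68.Ly.rep

theorem act_elt {w : List ℕ} (hw : ∀ x ∈ w, x < 10) {P Q : ℕ} (hP : okVec P = true)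
    (hQ : okVec Q = true) (h : imgB (invWord w) P (fun Z => Nat.beq Z Q) = true) :
    act (elt w) (H97.Ly.Vec.vecOf P) = H97.Ly.Vec.vecOf Q := by
  have h1 := Nat.eq_of_beq_eq_true (imgB_spec (k := fun Z => Nat.beq Z Q) (H68.Ly.invWord_lt hw) hP h)
  refine vecPk_inj ?_
  rw [vecPk_vecOf hQ, ← h1]
  show vecPk (Matrix.vecMul (H97.Ly.Vec.vecOf P) (((H68.Ly.rep (elt w))⁻¹ : GL (Fin 111) (ZMod 5)) : Mat)) = _
  rw [rep_elt hw, ← H68.Ly.W_invWord hw]
  rfl

/-- a level: own words, words of the later levels, the points, for every word the permutation of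
the points, and for every later point a word and an earlier point -/
structure Lev where
  own : List (List ℕ)
  later : List (List ℕ)
  pts : List ℕ
  perm : List (List ℕ)
  par : List (ℕ × ℕ)

attribute [local irreducible] okVec imgB vecPk H97.Ly.Vec.vecOf

/-- the points are distinct packed vectors -/
noncomputable def distinctB : List ℕ → Bool
  | [] => true
  | P :: l => okVec P && (l.all fun Q => !Nat.beq P Q) && distinctB l

theorem distinctB_spec : ∀ l : List ℕ, distinctB l = true →
    (∀ P ∈ l, okVec P = true) ∧ (l.map H97.Ly.Vec.vecOf).Nodup := by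
  intro l
  induction l with
  | nil => intro _; exact ⟨fun P hP => absurd hP List.not_mem_nil, List.nodup_nil⟩
  | cons P l ih =>
    intro h
    rw [distinctB, Bool.and_eq_true, Bool.and_eq_true] at h
    obtain ⟨⟨h1, h2⟩, h3⟩ := h
    obtain ⟨h4, h5⟩ := ih h3
    refine ⟨List.forall_mem_cons.2 ⟨h1, h4⟩, ?_⟩
    rw [List.map_cons, List.nodup_cons]
    refine ⟨fun hm => ?_, h5⟩
    obtain ⟨Q, hQ, e⟩ := List.mem_map.1 hm
    have e' : Q = P :=
      (vecPk_vecOf (h4 Q hQ)).symm.trans ((congrArg vecPk e).trans (vecPk_vecOf h1))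
    have h6 : Nat.beq P Q = false := Bool.eq_false_iff.2 fun hb => by
      have := List.all_eq_true.1 h2 Q hQ
      rw [hb] at this
      exact Bool.false_ne_true this
    rw [e', Nat.beq_refl] at h6
    exact Bool.false_ne_true h6.symm

/-- one word maps the points by one permutation -/
noncomputable def wordB (w : List ℕ) (pts perm : List ℕ) : Bool :=
  (w.all fun x => Nat.blt x 10) &&
    (List.range pts.length).all fun i => Nat.blt (perm.getD i 0) pts.length &&
      imgB (invWord w) (pts.getD i 0) (fun Z => Nat.beq Z (pts.getD (perm.getD i 0) 0))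

/-- the check of a level -/
noncomputable def Lev.ok (L : Lev) : Bool :=
  distinctB L.pts && Nat.blt 0 L.pts.length &&
    ((List.range (L.own ++ L.later).length).all fun k =>
      wordB ((L.own ++ L.later).getD k []) L.pts (L.perm.getD k [])) &&
    ((List.range L.later.length).all fun k =>
      Nat.beq ((L.perm.getD (L.own.length + k) []).getD 0 0) 0) &&
    ((List.range L.pts.length).all fun i => Nat.beq i 0 ||
      (Nat.blt (L.par.getD i (0, 0)).1 L.own.length && Nat.blt (L.par.getD i (0, 0)).2 i &&
        Nat.beq ((L.perm.getD (L.par.getD i (0, 0)).1 []).getD (L.par.getD i (0, 0)).2 0) i))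

theorem blt_lt {a b : ℕ} (h : Nat.blt a b = true) : a < b :=
  Nat.le_of_ble_eq_true h

theorem wordB_spec {w pts perm : List ℕ} (hp : ∀ P ∈ pts, okVec P = true)
    (h : wordB w pts perm = true) {i : ℕ} (hi : i < pts.length) :
    ∃ hj : perm.getD i 0 < pts.length,
      act (elt w) (H97.Ly.Vec.vecOf pts[i]) = H97.Ly.Vec.vecOf (pts[perm.getD i 0]) := by
  simp only [wordB, Bool.and_eq_true, List.all_eq_true, List.mem_range] at h
  obtain ⟨hw, h⟩ := h
  obtain ⟨h1, h2⟩ := h i hi
  have hj := blt_lt h1
  refine ⟨hj, act_elt (fun x hx => blt_lt (hw x hx)) (hp _ (List.getElem_mem hi))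
    (hp _ (List.getElem_mem hj)) ?_⟩
  rwa [List.getD_eq_getElem _ _ hi, List.getD_eq_getElem _ _ hj] at h2

/-- the element of the image given by a word -/
noncomputable def im (w : List ℕ) : H68.Ly.rep.range := H68.Ly.rep.rangeRestrict (elt w)

/-- the action of the image -/
noncomputable def actR : H68.Ly.rep.range →* Equiv.Perm V := permHom.comp H68.Ly.rep.range.subtype

theorem actR_im (w : List ℕ) : actR (im w) = act (elt w) := rfl

theorem Lev.level (L : Lev) (h : L.ok = true) :
    H97.Ly.Orbit.Level actR (L.own.map im) (L.later.map im) (L.pts.map H97.Ly.Vec.vecOf) := by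
  simp only [Lev.ok, Bool.and_eq_true, List.all_eq_true, List.mem_range, Bool.or_eq_true] at h
  obtain ⟨⟨⟨⟨hd, h0⟩, hw⟩, hfix⟩, hpar⟩ := h
  obtain ⟨hp, hnd⟩ := distinctB_spec _ hd
  have h0' := blt_lt h0
  have hmove : ∀ k, k < (L.own ++ L.later).length → ∀ i (hi : i < L.pts.length),
      ∃ hj : (L.perm.getD k []).getD i 0 < L.pts.length,
        act (elt ((L.own ++ L.later).getD k [])) (H97.Ly.Vec.vecOf L.pts[i]) =
          H97.Ly.Vec.vecOf (L.pts[(L.perm.getD k []).getD i 0]) :=
    fun k hk i hi => wordB_spec hp (hw k hk) hi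
  refine ⟨hnd, H97.Ly.Vec.vecOf L.pts[0], ?_, ?_, ?_, ?_⟩
  · rw [List.head?_map, List.head?_eq_getElem?, List.getElem?_eq_getElem h0']; rfl
  · intro g hg x hx
    rw [← List.map_append] at hg
    obtain ⟨w, hwm, rfl⟩ := List.mem_map.1 hg
    obtain ⟨P, hP, rfl⟩ := List.mem_map.1 hx
    obtain ⟨k, hk, rfl⟩ := List.getElem_of_mem hwm
    obtain ⟨i, hi, rfl⟩ := List.getElem_of_mem hP
    obtain ⟨hj, e⟩ := hmove k hk i hi
    rw [List.getD_eq_getElem _ _ hk] at e
    rw [actR_im, e]
    exact List.mem_map.2 ⟨_, List.getElem_mem hj, rfl⟩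
  · intro g hg
    obtain ⟨w, hwm, rfl⟩ := List.mem_map.1 hg
    obtain ⟨k, hk, rfl⟩ := List.getElem_of_mem hwm
    have hk' : L.own.length + k < (L.own ++ L.later).length := by
      rw [List.length_append]; omega
    obtain ⟨hj, e⟩ := hmove _ hk' 0 h0'
    have h00 := Nat.eq_of_beq_eq_true (hfix k hk)
    simp only [h00] at e
    rw [List.getD_eq_getElem _ _ hk', List.getElem_append_right (by omega)] at e
    rw [actR_im]
    simpa using e
  · intro i hi hi0
    rw [List.length_map] at hi
    rcases hpar i hi with hz | hz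
    · have := Nat.eq_of_beq_eq_true hz; omega
    · obtain ⟨⟨hk, hji⟩, he⟩ := hz
      have hk' := blt_lt hk
      have hji' := blt_lt hji
      have he' := Nat.eq_of_beq_eq_true he
      have hk'' : (L.par.getD i (0, 0)).1 < (L.own ++ L.later).length := by
        rw [List.length_append]; omega
      obtain ⟨hj, e⟩ := hmove _ hk'' _ (lt_trans hji' hi)
      simp only [he'] at e
      rw [List.getD_eq_getElem _ _ hk'', List.getElem_append_left hk'] at e
      refine ⟨_, List.mem_map_of_mem (List.getElem_mem hk'), (L.par.getD i (0, 0)).2,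
        by rw [List.length_map]; omega, hji', ?_⟩
      rw [actR_im]
      simpa using e

/-- consecutive levels -/
def Linked : List Lev → Prop
  | [] => True
  | L :: rest => L.later = rest.flatMap Lev.own ∧ Linked rest

theorem dvd_range {Ls : List Lev} (hl : Linked Ls)
    (hok : ∀ L ∈ Ls, L.ok = true) :
    (Ls.map fun L => L.pts.length).prod ∣ Nat.card H68.Ly.rep.range := by
  set C := Ls.map fun L => (L.own.map im, L.pts.map H97.Ly.Vec.vecOf) with hC
  have hall : ∀ R : List Lev, H97.Ly.Orbit.all (R.map fun L => (L.own.map im, L.pts.map H97.Ly.Vec.vecOf)) =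
      (R.flatMap Lev.own).map im := by
    intro R
    induction R with
    | nil => rfl
    | cons L R ih => simp [H97.Ly.Orbit.all, ih]
  have key : ∀ R : List Lev, Linked R → (∀ L ∈ R, L.ok = true) →
      H97.Ly.Orbit.Chain actR (R.map fun L => (L.own.map im, L.pts.map H97.Ly.Vec.vecOf)) ∧
      H97.Ly.Orbit.size (R.map fun L => (L.own.map im, L.pts.map H97.Ly.Vec.vecOf)) =
        (R.map fun L => L.pts.length).prod := by
    intro R
    induction R with
    | nil => intro _ _; exact ⟨trivial, rfl⟩
    | cons L R ih =>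
      intro hR hRok
      obtain ⟨i1, i2⟩ := ih hR.2 fun M hM => hRok M (List.mem_cons_of_mem _ hM)
      refine ⟨⟨?_, i1⟩, ?_⟩
      · rw [hall, ← hR.1]
        exact L.level (hRok L List.mem_cons_self)
      · simp [H97.Ly.Orbit.size, i2]
  obtain ⟨h1, h2⟩ := key Ls hl hok
  rw [← h2]
  exact H97.Ly.Orbit.size_dvd_card actR h1

end H44.LyOrder
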